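import Groth.Agent.Deform.PseudoRed.Basic
import Groth.Agent.Deform.Luna.CharRad
import Groth.Agent.Deform.Transporter

/-!
# Applications to solvable groups and to centralizers of tori
-/

set_option autoImplicit false
set_option linter.style.haveILetI false
set_option linter.unusedSectionVars false
set_option maxHeartbeats 1000000

universe u

open CategoryTheory CategoryTheory.Limits MonoidalCategory CartesianMonoidalCategory MonObj AlgebraicGeometry

attribute [local instance] CategoryTheory.Hom.monoid CategoryTheory.Hom.group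

noncomputable section

namespace Groth.Agent.Deform.PseudoRed

open FrobDesc (yK)
open Chev (Pt pimg)
open scoped commutatorElement

variable {k : Type u} [Field k]

/-- Absence of subtori passes to any field extension. -/
theorem hasNoSubtorus_bc {K : Type u} [Field K] [Algebra k K] (M : Over (Spec (CommRingCat.of k)))
    [GrpObj M] [IsAffine M.left] [Smooth M.hom] (h : Red.HasNoSubtorus k M) :
    Red.HasNoSubtorus K (Red.bc (yK k K) M) := by
  let F := Over.pullback (yK k K)
  intro T' _ j _ _ hT'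
  obtain ⟨T, iT, i, hi⟩ := TorusExist.exists_maxTorus M
  obtain ⟨him, himo, hT, -⟩ := id hi
  haveI := him; haveI := himo
  have htriv : IsIso T.hom := h T i hT
  haveI := htriv
  obtain ⟨-, -, -, hmax⟩ := (TorusExist.isMaxTorus_bc_iff (K := K) i hT).mp (TorusExist.isMaxTorus_of_isMaximalTorus hi)
  haveI hK : IsIso (Red.bc (yK k K) T).hom := inferInstanceAs (IsIso (pullback.snd T.hom (yK k K)))
  have hT1 : ∀ {X : Over (Spec (CommRingCat.of K))} (a b : X ⟶ Red.bc (yK k K) T), a = b := fun a b =>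
    Over.OverMorphism.ext ((cancel_mono (Red.bc (yK k K) T).hom).mp ((Over.w a).trans (Over.w b).symm))
  haveI := hmax T' j 1 hT' (by
    rw [MonObj.one_comp, show F.map i = 𝟙 _ ≫ F.map i from (Category.id_comp _).symm,
      show 𝟙 (Red.bc (yK k K) T) = 1 from hT1 _ _, MonObj.one_comp])
  haveI : IsIso ((1 : Red.bc (yK k K) T ⟶ T').left) := (Over.forget _).map_isIso (1 : Red.bc (yK k K) T ⟶ T')
  show IsIso T'.hom
  have e : (1 : Red.bc (yK k K) T ⟶ T').left ≫ T'.hom = (Red.bc (yK k K) T).hom := Over.w _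
  rw [← IsIso.eq_inv_comp] at e
  rw [e]; infer_instance

/-- Normality is stable under base change. -/
theorem normal_bc' {S S' : Scheme.{u}} (σ : S' ⟶ S) {G N : Over S} [GrpObj G] [GrpObj N] (c : N ⟶ G)
    (hc : AlgGrp.IsNormalHom c) : AlgGrp.IsNormalHom ((Over.pullback σ).map c) := by
  intro T g n
  obtain ⟨g', rfl⟩ := (Luna.SolvLocus.ptsEquiv (G := G) σ T).surjective g
  obtain ⟨n', rfl⟩ := (Luna.SolvLocus.ptsEquiv (G := N) σ T).surjective n
  obtain ⟨m, hm⟩ := hc _ g' n'
  refine ⟨Luna.SolvLocus.ptsEquiv (G := N) σ T m, ?_⟩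
  have h : ∀ z, Luna.SolvLocus.ptsEquiv (G := N) σ T z ≫ (Over.pullback σ).map c =
      Luna.SolvLocus.ptsEquiv (G := G) σ T (z ≫ c) := fun z =>
    ((Over.mapPullbackAdj σ).homEquiv_naturality_right z c).symm
  rw [h, h, ← hm, map_mul, map_mul, map_inv]

/-- Pseudo-reductivity descends along field extensions. -/
theorem isPR_of_bc {K : Type u} [Field K] [Algebra k K] (G : Over (Spec (CommRingCat.of k))) [GrpObj G]
    [IsAffine G.left] [Smooth G.hom] [ConnectedSpace G.left] (h : IsPR (Red.bc (yK k K) G)) : IsPR G := by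
  intro U _ i _ hic hUs hUc hn hgeo
  haveI := hic; haveI := hUs; haveI := hUc
  haveI : IsAffineHom G.hom := isAffineHom_of_isAffine _
  haveI : IsAffine U.left := isAffine_of_isAffineHom i.left
  obtain ⟨hUa, hUKs, hUKc⟩ := Borel.bc_props (yK k K) U
  haveI := hUa; haveI := hUKs
  let F := Over.pullback (yK k K)
  haveI : IsClosedImmersion (F.map i).left :=
    MorphismProperty.of_isPullback (P := @IsClosedImmersion) (GrpSchLib.HomSplitLocal.isPullback_map i (yK k K)) hic
  have hU : Red.HasNoSubtorus k U := (TorusExist.hasNoSubtorus_iff _ U).mpr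
    (bc_of_geom (K := AlgebraicClosure k) U hgeo)
  exact TorusExist.isTrivialGrp_of_bc_field (K := K) U (h (Red.bc (yK k K) U) (F.map i) inferInstance hUKs hUKc
    (normal_bc' (yK k K) i hn)
    (geom_of_bc (K := AlgebraicClosure K) _ (hasNoSubtorus_bc _ (hasNoSubtorus_bc U hU))))

variable {K : Type u} [Field K] [IsAlgClosed K] [Algebra k K]

/-- The product of two smooth connected groups is geometrically irreducible. -/
theorem irreducible_bc_tensor (A B : Over (Spec (CommRingCat.of k))) [GrpObj A] [GrpObj B] [Smooth A.hom]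
    [ConnectedSpace A.left] [QuasiCompact A.hom] [Smooth B.hom] [ConnectedSpace B.left] [QuasiCompact B.hom] :
    IrreducibleSpace ↥(Red.bc (yK k K) (A ⊗ B)).left := by
  let F := Over.pullback (yK k K)
  haveI : GeometricallyIntegral A.hom := AVFactor.geometricallyIntegral_smooth A
  haveI : GeometricallyIntegral (F.obj A).hom := inferInstanceAs (GeometricallyIntegral (pullback.snd A.hom _))
  haveI : Smooth (F.obj A).hom := inferInstanceAs (Smooth (pullback.snd A.hom _))
  haveI : GeometricallyIntegral B.hom := AVFactor.geometricallyIntegral_smooth B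
  haveI : GeometricallyIntegral (F.obj B).hom := inferInstanceAs (GeometricallyIntegral (pullback.snd B.hom _))
  haveI : Smooth (F.obj B).hom := inferInstanceAs (Smooth (pullback.snd B.hom _))
  haveI : IrreducibleSpace B.left := S0348.result k B
  haveI : IrreducibleSpace ↥(F.obj B).left :=
    GeometricallyIrreducible.irreducibleSpace (pullback.snd B.hom (yK k K)) (pullback.snd B.hom (yK k K)).isOpenMap
  haveI : IrreducibleSpace ↥(F.obj A ⊗ F.obj B).left :=
    GeometricallyIrreducible.irreducibleSpace (pullback.snd (F.obj A).hom (F.obj B).hom)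
      (pullback.snd (F.obj A).hom (F.obj B).hom).isOpenMap
  let e := ((Over.forget _).mapIso (Functor.Monoidal.μIso F A B)).hom.homeomorph
  haveI : PreirreducibleSpace ↥(Red.bc (yK k K) (A ⊗ B)).left := ⟨by
    have := (PreirreducibleSpace.isPreirreducible_univ (X := ↥(F.obj A ⊗ F.obj B).left)).image e
      e.continuous.continuousOn
    exact (Set.image_univ.trans e.surjective.range_eq) ▸ this⟩
  haveI : Nonempty ↥(Red.bc (yK k K) (A ⊗ B)).left := ⟨e (Classical.arbitrary ↥(F.obj A ⊗ F.obj B).left)⟩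
  exact ⟨‹_›⟩

/-- A subgroup whose geometric commutators lie in a unipotent normal subgroup is commutative. -/
theorem comm_of_commutators {G Z : Over (Spec (CommRingCat.of k))} [GrpObj G] [GrpObj Z] [IsAffine G.left]
    [Smooth G.hom] [ConnectedSpace G.left] (hPR : IsPR G) [Smooth Z.hom] [ConnectedSpace Z.left]
    (j : Z ⟶ G) [IsMonHom j] [Mono j]
    {R : Over (Spec (CommRingCat.of K))} [GrpObj R] (r : R ⟶ Red.bc (yK k K) G) [IsMonHom r] [IsClosedImmersion r.left]
    (hRn : ∀ (g : Pt (Red.bc (yK k K) G)) (y : Pt R), ∃ y' : Pt R, y' ≫ r = g * (y ≫ r) * g⁻¹)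
    (hR : Red.HasNoSubtorus K R)
    (hcomm : ∀ a b : Pt (Red.bc (yK k K) Z), ∃ y : Pt R,
      y ≫ r = (⁅a, b⁆ : Pt (Red.bc (yK k K) Z)) ≫ (Over.pullback (yK k K)).map j)
    (X : Over (Spec (CommRingCat.of k))) (g h : X ⟶ Z) : g * h = h * g := by
  haveI := GenSub.quasiCompact_of_connected Z
  let f : Z ⊗ Z ⟶ G := ⁅fst Z Z, snd Z Z⁆ ≫ j
  haveI : GeometricallyReduced Z.hom := H23.RigidGamma.geometricallyReduced_of_smooth Z.hom
  haveI := GenSub.geometricallyReduced_tensor Z Z
  haveI : LocallyOfFiniteType (Z ⊗ Z).hom := by rw [Over.tensorObj_hom]; infer_instance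
  haveI : QuasiCompact (Z ⊗ Z).hom := by rw [Over.tensorObj_hom]; infer_instance
  haveI := irreducible_bc_tensor (K := K) Z Z
  have hf : f = 1 := eq_one hPR f (lift 1 1) (by
      simp only [f, commutatorElement_def, ← Category.assoc, MonObj.comp_mul, GrpObj.comp_inv, lift_fst, lift_snd,
        inv_one, _root_.mul_one, MonObj.one_comp]) r hRn hR fun x => by
    obtain ⟨y, hy⟩ := hcomm (x ≫ (Over.pullback (yK k K)).map (fst Z Z)) (x ≫ (Over.pullback (yK k K)).map (snd Z Z))
    refine ⟨y, hy.trans ?_⟩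
    simp only [f, commutatorElement_def, Functor.map_comp, Functor.map_mul, Functor.map_inv', MonObj.comp_mul,
      GrpObj.comp_inv, ← Category.assoc]
  have h1 : (⁅g, h⁆ : X ⟶ Z) ≫ j = 1 := by
    have := congrArg (lift g h ≫ ·) hf
    simpa only [f, commutatorElement_def, ← Category.assoc, MonObj.comp_mul, GrpObj.comp_inv, lift_fst, lift_snd,
      MonObj.comp_one] using this
  rw [← commutatorElement_eq_one_iff_mul_comm, ← cancel_mono j, h1, MonObj.one_comp]

/-- The kernel of a homomorphism on points is stable under conjugation. -/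
theorem ker_normal {S T V : Over (Spec (CommRingCat.of K))} [GrpObj S] [GrpObj T] [GrpObj V] (ρ : S ⟶ T) [IsMonHom ρ]
    (κ : V ⟶ S) (hker : ∀ x : Pt S, (∃ y : Pt V, y ≫ κ = x) ↔ x ≫ ρ = 1) (g : Pt S) (y : Pt V) :
    ∃ y' : Pt V, y' ≫ κ = g * (y ≫ κ) * g⁻¹ := by
  apply (hker _).mpr
  rw [MonObj.mul_comp, MonObj.mul_comp, (hker _).mp ⟨y, rfl⟩, GrpObj.inv_comp, _root_.mul_one, mul_inv_cancel]

/-- The unipotent part of a solvable group receives the commutators. -/
theorem exists_commutator_kernel (S : Over (Spec (CommRingCat.of K))) [GrpObj S] [IsAffine S.left] [Smooth S.hom]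
    [ConnectedSpace S.left] [Group.IsSolvable (Pt S)] :
    ∃ (V : Over (Spec (CommRingCat.of K))) (_ : GrpObj V) (v : V ⟶ S), IsMonHom v ∧ IsClosedImmersion v.left ∧
      Smooth V.hom ∧ ConnectedSpace V.left ∧ Red.HasNoSubtorus K V ∧
      (∀ (g : Pt S) (y : Pt V), ∃ y' : Pt V, y' ≫ v = g * (y ≫ v) * g⁻¹) ∧
      ∀ a b : Pt S, ∃ y : Pt V, y ≫ v = ⁅a, b⁆ := by
  obtain ⟨T, gT, i, ρ, V, gV, v, hT, hρ, -, -, hv, hvc, hVs, hVc, hker, hV⟩ := Borel.exists_rad S
  haveI := hρ; haveI := hv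
  refine ⟨V, gV, v, hv, hvc, hVs, hVc, hV, ker_normal ρ v hker, fun a b => (hker _).mpr ?_⟩
  rw [commutatorElement_def, MonObj.mul_comp, MonObj.mul_comp, MonObj.mul_comp, GrpObj.inv_comp, GrpObj.inv_comp,
    GrpSchLib.RankOne.torus_mul_comm hT _ (a ≫ ρ) (b ≫ ρ)]
  group

variable {G Z : Over (Spec (CommRingCat.of k))} [GrpObj G] [GrpObj Z] [IsAffine G.left] [Smooth G.hom]
  [ConnectedSpace G.left]

/-- Unipotent normal subgroups of centralizers of tori over an algebraically closed field lie in unipotent normal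
subgroups. -/
theorem exists_Ru_of_centralizer {H S C W : Over (Spec (CommRingCat.of K))} [GrpObj H] [GrpObj S] [GrpObj C]
    [GrpObj W] [IsAffine H.left] [Smooth H.hom] [ConnectedSpace H.left] (hS : Red.IsTorus S) {iS : S ⟶ H}
    [IsMonHom iS] [Mono iS] {c : C ⟶ H} (hc : Red.IsCentralizerOf iS c)
    (w : W ⟶ C) [IsMonHom w] [IsAffine W.left] [Smooth W.hom] [ConnectedSpace W.left]
    (hn : ∀ (g : Pt C) (x : Pt W), ∃ x' : Pt W, x' ≫ w = g * (x ≫ w) * g⁻¹) (hW : Red.HasNoSubtorus K W) :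
    ∃ (R : Over (Spec (CommRingCat.of K))) (_ : GrpObj R) (r : R ⟶ H), IsMonHom r ∧ IsClosedImmersion r.left ∧
      AlgGrp.IsNormalHom r ∧ Red.HasNoSubtorus K R ∧ ∃ f : W ⟶ R, f ≫ r = w ≫ c := by
  obtain ⟨B, gB, iB, hB, hxB⟩ := Luna.centralizer_radical_mem_borels hS hc w hn hW
  obtain ⟨R, gR, r, hr, hrc, -, -, hrn, hR, huniv⟩ := Luna.exists_Ru hB
  haveI := hc.1
  obtain ⟨f, hf⟩ := huniv W (w ≫ c) hW fun x g => by
    obtain ⟨b, hb⟩ := hxB x g
    exact ⟨b, hb⟩
  exact ⟨R, gR, r, hr, hrc, hrn, hR, f, hf⟩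

/-- Pseudo-reductivity passes to centralizers of tori. -/
theorem isPR_centralizer (hPR : IsPR G) {T : Over (Spec (CommRingCat.of k))} [GrpObj T] (iT : T ⟶ G) [IsMonHom iT]
    [Mono iT] (hT : Red.IsTorus T) (j : Z ⟶ G) (hZ : Red.IsCentralizerOf iT j) : IsPR Z := by
  intro U _ i _ hic hUs hUc hn hgeo
  haveI := hic; haveI := hUs; haveI := hUc; haveI := hZ.1; haveI := hZ.2.1
  haveI : IsAffineHom G.hom := isAffineHom_of_isAffine _
  haveI := Agent.GrpSchLib.AntiAffine.isSeparated_grp G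
  obtain ⟨hjc, hZs⟩ := Borel.centralizer_smooth hT hZ
  haveI := hjc; haveI := hZs
  haveI : IsAffine Z.left := isAffine_of_isAffineHom j.left
  haveI : IsAffine U.left := isAffine_of_isAffineHom i.left
  let σ := yK k (AlgebraicClosure k)
  let F := Over.pullback σ
  obtain ⟨hGa, hGs, hGc⟩ := Borel.bc_props σ G
  haveI := hGa; haveI := hGs; haveI := hGc
  obtain ⟨hUa, hUKs, hUKc⟩ := Borel.bc_props σ U
  haveI := hUa; haveI := hUKs; haveI := hUKc
  obtain ⟨R, gR, r, hr, hrc, hrn, hR, f, hf⟩ := exists_Ru_of_centralizer (Deform.isTorus_bc σ hT)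
    (Borel.isCentralizerOf_bc σ hZ) (F.map i) (fun g x => by
      obtain ⟨x', hx'⟩ := GenSub.normal_bc σ i hn _ g x
      exact ⟨x', hx'.symm⟩) (bc_of_geom U hgeo)
  haveI := hr; haveI := hrc
  haveI : IsAffineHom U.hom := isAffineHom_of_isAffine _
  haveI : GeometricallyReduced U.hom := H23.RigidGamma.geometricallyReduced_of_smooth U.hom
  haveI : GeometricallyIntegral U.hom := AVFactor.geometricallyIntegral_smooth U
  haveI : IrreducibleSpace ↥(Red.bc σ U).left := S0348.result _ (Red.bc σ U)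
  have h1 : i ≫ j = 1 := eq_one hPR (i ≫ j) 1 (MonObj.one_comp _) r
    (fun g y => by obtain ⟨y', hy'⟩ := hrn _ g y; exact ⟨y', hy'.symm⟩) hR fun x => ⟨x ≫ f, by
      rw [Category.assoc, hf, F.map_comp]⟩
  haveI : Mono i := (Over.forget _).mono_of_mono_map (inferInstanceAs (Mono i.left))
  have h2 : 𝟙 U = 1 := by rw [← cancel_mono (i ≫ j), Category.id_comp, MonObj.one_comp, h1]
  haveI : IsIso (toUnit U) := ⟨η[U], by
    rw [h2, Hom.one_def], toUnit_unique _ _⟩
  exact (Over.forget _).map_isIso (toUnit U)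

section ConjAut

variable {F₀ : Type u} [Field F₀] {H : Over (Spec (CommRingCat.of F₀))} [GrpObj H]

/-- Conjugation by a rational point, over any field. -/
def conjAut (g : 𝟙_ (Over (Spec (CommRingCat.of F₀))) ⟶ H) : H ⟶ H :=
  (toUnit H ≫ g) * 𝟙 H * (toUnit H ≫ g)⁻¹

theorem comp_conjAut {Y : Over (Spec (CommRingCat.of F₀))} (f : Y ⟶ H)
    (g : 𝟙_ (Over (Spec (CommRingCat.of F₀))) ⟶ H) : f ≫ conjAut g = AGF.conjBy g f := by
  have h : f ≫ toUnit H = toUnit Y := toUnit_unique _ _
  simp only [conjAut, MonObj.comp_mul, GrpObj.comp_inv, Category.comp_id, reassoc_of% h]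

instance isIso_conjAut (g : 𝟙_ (Over (Spec (CommRingCat.of F₀))) ⟶ H) : IsIso (conjAut g) := by
  have h : ∀ a b : 𝟙_ (Over (Spec (CommRingCat.of F₀))) ⟶ H, a * b = 1 → conjAut b ≫ conjAut a = 𝟙 H := fun a b hab => by
    rw [comp_conjAut]
    show (toUnit H ≫ a) * ((toUnit H ≫ b) * 𝟙 H * (toUnit H ≫ b)⁻¹) * (toUnit H ≫ a)⁻¹ = 𝟙 H
    have h1 : (toUnit H ≫ a) * (toUnit H ≫ b) = 1 := by rw [← MonObj.comp_mul, hab, MonObj.comp_one]
    rw [show toUnit H ≫ b = (toUnit H ≫ a)⁻¹ from (inv_eq_of_mul_eq_one_right h1).symm]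
    group
  exact ⟨⟨conjAut g⁻¹, h _ _ (inv_mul_cancel g), h _ _ (mul_inv_cancel g)⟩⟩

instance isMonHom_conjAut (g : 𝟙_ (Over (Spec (CommRingCat.of F₀))) ⟶ H) : IsMonHom (conjAut g) := by
  have hm : ∀ (T : Over (Spec (CommRingCat.of F₀))) (x y : T ⟶ H),
      (x * y) ≫ conjAut g = (x ≫ conjAut g) * (y ≫ conjAut g) := by
    intro T x y
    rw [comp_conjAut, comp_conjAut, comp_conjAut]
    simp only [AGF.conjBy]
    group
  refine ⟨?_, ?_⟩
  · rw [show (η[H] : 𝟙_ _ ⟶ H) = 1 from MonObj.one_eq_one H, comp_conjAut]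
    simp [AGF.conjBy]
  · rw [show μ[H] = fst H H * snd H H by rw [Hom.mul_def, lift_fst_snd, Category.id_comp], hm,
      show fst H H * snd H H = μ[H] by rw [Hom.mul_def, lift_fst_snd, Category.id_comp],
      show (conjAut g ⊗ₘ conjAut g) ≫ μ[H] = (fst H H ≫ conjAut g) * (snd H H ≫ conjAut g) by
        rw [Hom.mul_def]; congr 1]

end ConjAut

end Groth.Agent.Deform.PseudoRed
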