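import Groth.Agent.Deform.TorusExist.InterTorus
import Groth.Agent.Deform.GenSub.CommField
import Groth.Agent.Deform.GenSub.GenConn
import Groth.Agent.Deform.Luna.Chevalley
import Groth.Agent.Deform.AVFactor
import Groth.Agent.S0348

/-!
# Pseudo-reductive groups: morphisms into the geometric unipotent radical are trivial
-/

set_option autoImplicit false
set_option linter.style.haveILetI false
set_option linter.unusedSectionVars false
set_option maxHeartbeats 1000000

universe u

open CategoryTheory CategoryTheory.Limits MonoidalCategory CartesianMonoidalCategory MonObj AlgebraicGeometry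

attribute [local instance] CategoryTheory.Hom.monoid CategoryTheory.Hom.group

noncomputable section

namespace Groth.Agent.Deform.PseudoRed

open FrobDesc (yK)
open TorusExist (GK)
open Chev (Pt pimg)
open GenSub Luna.SolvLocus

attribute [local instance] TorusExist.geomAlg

variable {k : Type u} [Field k]

/-- Every smooth connected unipotent normal subgroup scheme is trivial. -/
abbrev IsPR (G : Over (Spec (CommRingCat.of k))) [GrpObj G] : Prop :=
  ∀ (U : Over (Spec (CommRingCat.of k))) [GrpObj U] (i : U ⟶ G) [IsMonHom i],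
    IsClosedImmersion i.left → Smooth U.hom → ConnectedSpace ↥U.left → AlgGrp.IsNormalHom i →
    (∀ s : ↥(Spec (CommRingCat.of k)),
      Red.HasNoSubtorus (AlgebraicClosure ((Spec (CommRingCat.of k)).residueField s)) (Red.geomFibre s U)) →
    Red.IsTrivialGrp U

/-- Absence of subtori at the geometric point. -/
theorem geom_iff (U : Over (Spec (CommRingCat.of k))) [GrpObj U] :
    (∀ s : ↥(Spec (CommRingCat.of k)),
      Red.HasNoSubtorus (AlgebraicClosure ((Spec (CommRingCat.of k)).residueField s)) (Red.geomFibre s U)) ↔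
      Red.HasNoSubtorus (GK k) (Red.bc (yK k (GK k)) U) := by
  have key : ∀ y : Spec (CommRingCat.of (GK k)) ⟶ Spec (CommRingCat.of k), y = yK k (GK k) →
      (Red.HasNoSubtorus (GK k) (Red.bc y U) ↔ Red.HasNoSubtorus (GK k) (Red.bc (yK k (GK k)) U)) := by
    rintro y rfl; rfl
  refine ⟨fun h => (key _ (TorusExist.yK_geom k).symm).mp (h _), fun h s => ?_⟩
  obtain rfl : s = IsLocalRing.closedPoint k := Subsingleton.elim (α := PrimeSpectrum k) _ _
  exact (key _ (TorusExist.yK_geom k).symm).mpr h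

/-- A group without subtori over some algebraically closed extension has none at the geometric point. -/
theorem geom_of_bc {K : Type u} [Field K] [IsAlgClosed K] [Algebra k K] (U : Over (Spec (CommRingCat.of k)))
    [GrpObj U] [IsAffine U.left] [Smooth U.hom] (h : Red.HasNoSubtorus K (Red.bc (yK k K) U))
    (s : ↥(Spec (CommRingCat.of k))) :
    Red.HasNoSubtorus (AlgebraicClosure ((Spec (CommRingCat.of k)).residueField s)) (Red.geomFibre s U) :=
  (geom_iff U).mpr ((TorusExist.hasNoSubtorus_iff (GK k) U).mp ((TorusExist.hasNoSubtorus_iff K U).mpr h)) s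

/-- Absence of subtori over any algebraically closed extension. -/
theorem bc_of_geom {K : Type u} [Field K] [IsAlgClosed K] [Algebra k K] (U : Over (Spec (CommRingCat.of k)))
    [GrpObj U] [IsAffine U.left] [Smooth U.hom] (h : ∀ s : ↥(Spec (CommRingCat.of k)),
      Red.HasNoSubtorus (AlgebraicClosure ((Spec (CommRingCat.of k)).residueField s)) (Red.geomFibre s U)) :
    Red.HasNoSubtorus K (Red.bc (yK k K) U) :=
  (TorusExist.hasNoSubtorus_iff K U).mp ((TorusExist.hasNoSubtorus_iff (GK k) U).mpr ((geom_iff U).mp h))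

variable {K : Type u} [Field K] [IsAlgClosed K] [Algebra k K]

/-- Normality is detected on the geometric points. -/
theorem isNormalHom_of_geomPts {G H : Over (Spec (CommRingCat.of k))} [GrpObj G] [GrpObj H] [Smooth G.hom]
    [Smooth H.hom] (i : H ⟶ G) [IsMonHom i] [IsClosedImmersion i.left]
    (h : ∀ (g : Pt (Red.bc (yK k K) G)) (x : Pt (Red.bc (yK k K) H)), ∃ x' : Pt (Red.bc (yK k K) H),
      x' ≫ (Over.pullback (yK k K)).map i = g * (x ≫ (Over.pullback (yK k K)).map i) * g⁻¹) :
    AlgGrp.IsNormalHom i := by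
  let F := Over.pullback (yK k K)
  haveI : Smooth (Red.bc (yK k K) G).hom := inferInstanceAs (Smooth (pullback.snd G.hom _))
  haveI : Smooth (Red.bc (yK k K) H).hom := inferInstanceAs (Smooth (pullback.snd H.hom _))
  haveI : IsClosedImmersion (F.map i).left :=
    MorphismProperty.of_isPullback (P := @IsClosedImmersion) (GrpSchLib.HomSplitLocal.isPullback_map i (yK k K))
      inferInstance
  haveI : Mono i := (Over.forget _).mono_of_mono_map (inferInstanceAs (Mono i.left))
  obtain ⟨w, hw⟩ := Luna.isNormalHom_of_pts (F.map i) h _ (F.map (fst G H)) (F.map (snd G H))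
  obtain ⟨c, hc⟩ := TorusExist.exists_factor_of_bc (K := K) i (fst G H * (snd G H ≫ i) * (fst G H)⁻¹) w (by
    rw [← hw]
    simp only [F, Functor.map_mul, Functor.map_comp, Functor.map_inv'])
  intro T g n
  refine ⟨lift g n ≫ c, ?_⟩
  rw [Category.assoc, hc]
  simp only [MonObj.comp_mul, GrpObj.comp_inv, lift_fst, lift_snd_assoc]

set_option maxHeartbeats 4000000 in
/-- **Key lemma**: in a pseudo-reductive group a geometrically reduced and irreducible family through the identity
whose geometric points lie in a unipotent normal subgroup is constant. -/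
theorem eq_one {G X : Over (Spec (CommRingCat.of k))} [GrpObj G] [IsAffine G.left] [Smooth G.hom]
    [ConnectedSpace G.left] (hPR : IsPR G) [LocallyOfFiniteType X.hom] [QuasiCompact X.hom]
    [GeometricallyReduced X.hom] [IrreducibleSpace ↥(Red.bc (yK k K) X).left]
    (f : X ⟶ G) (x₀ : 𝟙_ (Over (Spec (CommRingCat.of k))) ⟶ X) (hx₀ : x₀ ≫ f = 1)
    {R : Over (Spec (CommRingCat.of K))} [GrpObj R] (r : R ⟶ Red.bc (yK k K) G) [IsMonHom r]
    [IsClosedImmersion r.left] (hRn : ∀ (g : Pt (Red.bc (yK k K) G)) (y : Pt R), ∃ y' : Pt R, y' ≫ r = g * (y ≫ r) * g⁻¹)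
    (hR : Red.HasNoSubtorus K R)
    (hX : ∀ x : Pt (Red.bc (yK k K) X), ∃ z : Pt R, z ≫ r = x ≫ (Over.pullback (yK k K)).map f) :
    f = 1 := by
  let σ := yK k K
  let F := Over.pullback σ
  haveI : IsAffineHom G.hom := isAffineHom_of_isAffine _
  haveI : GeometricallyReduced G.hom := H23.RigidGamma.geometricallyReduced_of_smooth G.hom
  haveI : GeometricallyIntegral G.hom := AVFactor.geometricallyIntegral_smooth G
  haveI : LocallyOfFiniteType (G ⊗ X).hom := by rw [Over.tensorObj_hom]; infer_instance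
  haveI : QuasiCompact (G ⊗ X).hom := by rw [Over.tensorObj_hom]; infer_instance
  haveI := geometricallyReduced_tensor G X
  let φ : G ⊗ X ⟶ G := fst G X * (snd G X ≫ f) * (fst G X)⁻¹
  -- the source of conjugation is geometrically connected
  haveI hirr : IrreducibleSpace ↥(pullback (Red.bc σ G).hom (Red.bc σ X).hom) := by
    haveI : GeometricallyIntegral (Red.bc σ G).hom := inferInstanceAs (GeometricallyIntegral (pullback.snd G.hom σ))
    haveI : LocallyOfFiniteType (Red.bc σ G).hom := inferInstanceAs (LocallyOfFiniteType (pullback.snd G.hom σ))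
    exact GeometricallyIrreducible.irreducibleSpace (pullback.snd (Red.bc σ G).hom (Red.bc σ X).hom)
      (pullback.snd (Red.bc σ G).hom (Red.bc σ X).hom).isOpenMap
  haveI : ConnectedSpace ↥(Red.bc σ (G ⊗ X)).left := by
    haveI : ConnectedSpace ↥(F.obj G ⊗ F.obj X).left :=
      inferInstanceAs (ConnectedSpace ↥(pullback (Red.bc σ G).hom (Red.bc σ X).hom))
    haveI : IsIso (Functor.Monoidal.μIso F G X).hom.left :=
      (Over.forget _).map_isIso (Functor.Monoidal.μIso F G X).hom
    exact Function.Surjective.connectedSpace (f := (Functor.Monoidal.μIso F G X).hom.left) Surjective.surj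
      (Functor.Monoidal.μIso F G X).hom.left.continuous
  haveI : ConnectedSpace ↥(G ⊗ X).left := by
    haveI : Surjective σ :=
      ⟨fun y => ⟨IsLocalRing.closedPoint K, Subsingleton.elim (α := PrimeSpectrum k) _ _⟩⟩
    haveI : Surjective (pullback.fst (G ⊗ X).hom σ) := inferInstance
    haveI : ConnectedSpace ↥(pullback (G ⊗ X).hom σ) := ‹ConnectedSpace ↥(Red.bc σ (G ⊗ X)).left›
    exact Function.Surjective.connectedSpace (f := (pullback.fst (G ⊗ X).hom σ)) Surjective.surj
      (pullback.fst (G ⊗ X).hom σ).continuous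
  haveI : LocallyOfFiniteType (Red.bc σ (G ⊗ X)).hom :=
    inferInstanceAs (LocallyOfFiniteType (pullback.snd (G ⊗ X).hom σ))
  haveI : QuasiCompact (Red.bc σ (G ⊗ X)).hom := inferInstanceAs (QuasiCompact (pullback.snd (G ⊗ X).hom σ))
  haveI : LocallyOfFiniteType (Red.bc σ G).hom := inferInstanceAs (LocallyOfFiniteType (pullback.snd G.hom σ))
  -- points before and after base change
  let e := ptsEquiv (G := G) σ (𝟙_ (Over (Spec (CommRingCat.of K))))
  have hnat : ∀ {C : Over (Spec (CommRingCat.of k))} (c : C ⟶ G),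
      e '' (Set.range fun x : geomT σ ⟶ C => x ≫ c) = Set.range fun y : Pt (Red.bc σ C) => y ≫ F.map c := by
    intro C c
    rw [← Set.range_comp]
    ext g
    constructor
    · rintro ⟨x, rfl⟩
      exact ⟨_, ((Over.mapPullbackAdj σ).homEquiv_naturality_right x c).symm⟩
    · rintro ⟨y, rfl⟩
      obtain ⟨x, rfl⟩ := ((Over.mapPullbackAdj σ).homEquiv _ C).surjective y
      exact ⟨x, (Over.mapPullbackAdj σ).homEquiv_naturality_right x c⟩
  set S : Set (geomT σ ⟶ G) := Set.range fun x : geomT σ ⟶ G ⊗ X => x ≫ φ with hS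
  have hSK : e '' S = Set.range fun y : Pt (Red.bc σ (G ⊗ X)) => y ≫ F.map φ := hnat φ
  let z₀ : 𝟙_ (Over (Spec (CommRingCat.of k))) ⟶ G ⊗ X := lift 1 x₀
  have hz₀ : z₀ ≫ φ = 1 := by
    simp only [z₀, φ, MonObj.comp_mul, GrpObj.comp_inv, lift_fst, lift_snd_assoc, hx₀, _root_.one_mul, inv_one]
  have hb : Bounded S := by
    obtain ⟨y₀, hy₀⟩ : ∃ y₀ : Pt (Red.bc σ (G ⊗ X)), y₀ ≫ F.map φ = 1 :=
      ⟨(Functor.Monoidal.εIso F).hom ≫ F.map z₀, by
        rw [Category.assoc, ← F.map_comp, hz₀, Functor.map_one, MonObj.comp_one]⟩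
    obtain ⟨n, hn⟩ := bounded_of_connected (F.map φ) y₀ hy₀
    refine bounded_of_mulEquiv e ⟨(alt n).length, fun g hg => ⟨alt n, le_rfl, ?_⟩⟩
    rw [hSK] at hg ⊢
    exact hn hg
  obtain ⟨I, iI, i, hi, hic, hIs, hIq, ⟨φ', hφ'⟩, -, hpts, hmin⟩ := exists_generated σ φ hb
  haveI := hi; haveI := hic; haveI := hIs; haveI := hIq
  haveI : Mono i := (Over.forget _).mono_of_mono_map (inferInstanceAs (Mono i.left))
  haveI : IsAffine I.left := isAffine_of_isAffineHom i.left
  -- the generated subgroup is connected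
  haveI hIc : ConnectedSpace I.left := by
    obtain ⟨I₀, iI₀, i₀, hi₀, hi₀c, hi₀o, hI₀s, hI₀q, hI₀c, hI₀r⟩ := Chev.exists_neutral I
    haveI := hi₀; haveI := hi₀c; haveI := hi₀o; haveI := hI₀c
    haveI : IsClosedImmersion (i₀ ≫ i).left := inferInstanceAs (IsClosedImmersion (i₀.left ≫ i.left))
    haveI : Mono (i₀ ≫ i) := (Over.forget _).mono_of_mono_map (inferInstanceAs (Mono (i₀ ≫ i).left))
    have hz : z₀ ≫ φ' = 1 := by rw [← cancel_mono i, Category.assoc, hφ', hz₀, MonObj.one_comp]
    have hcl : IsClopen (φ'.left ⁻¹' Set.range i₀.left) :=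
      ⟨i₀.left.isClosedEmbedding.isClosed_range.preimage φ'.left.continuous,
        i₀.left.isOpenEmbedding.isOpen_range.preimage φ'.left.continuous⟩
    have hne : (φ'.left ⁻¹' Set.range i₀.left).Nonempty := by
      refine ⟨z₀.left (IsLocalRing.closedPoint k),
        (1 : 𝟙_ (Over (Spec (CommRingCat.of k))) ⟶ I₀).left (IsLocalRing.closedPoint k), ?_⟩
      rw [← Scheme.Hom.comp_apply, ← Scheme.Hom.comp_apply, ← Over.comp_left, ← Over.comp_left, hz, MonObj.one_comp]
    have huniv := hcl.eq_univ hne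
    let φ₀ : G ⊗ X ⟶ I₀ := Over.homMk (IsOpenImmersion.lift i₀.left φ'.left (by
      rintro _ ⟨x, rfl⟩
      exact (Set.ext_iff.mp huniv x).mpr (Set.mem_univ _))) (by
      rw [← Over.w i₀, ← Category.assoc, IsOpenImmersion.lift_fac, Over.w φ'])
    obtain ⟨j, hj⟩ := hmin I₀ iI₀ (i₀ ≫ i) inferInstance inferInstance ⟨φ₀, by
      rw [← Category.assoc, show φ₀ ≫ i₀ = φ' from Over.OverMorphism.ext (IsOpenImmersion.lift_fac _ _ _), hφ']⟩
    have hji : j ≫ i₀ = 𝟙 I := by rw [← cancel_mono i, Category.assoc, hj, Category.id_comp]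
    exact Function.Surjective.connectedSpace (f := i₀.left) (fun y => ⟨j.left y, by
      rw [← Scheme.Hom.comp_apply, ← Over.comp_left, hji]; rfl⟩) i₀.left.continuous
  -- it is normal
  let H := Subgroup.closure (e '' S)
  have hIK : (Set.range fun y : Pt (Red.bc σ I) => y ≫ F.map i) = (H : Set (Pt (Red.bc σ G))) := by
    rw [← hnat i, hpts, show (e '' _ : Set (Pt (Red.bc σ G))) = e.toMonoidHom '' _ from rfl, ← Subgroup.coe_map,
      MonoidHom.map_closure]
    rfl
  have hconjS : ∀ (g : Pt (Red.bc σ G)), ∀ s ∈ e '' S, g * s * g⁻¹ ∈ e '' S := by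
    intro g s hs
    rw [hSK] at hs ⊢
    obtain ⟨y, rfl⟩ := hs
    have hφK : ∀ y : Pt (Red.bc σ (G ⊗ X)), y ≫ F.map φ =
        (y ≫ F.map (fst G X)) * ((y ≫ F.map (snd G X)) ≫ F.map f) * (y ≫ F.map (fst G X))⁻¹ := fun y => by
      simp only [φ, σ, F, Functor.map_mul, Functor.map_comp, Functor.map_inv', MonObj.comp_mul, GrpObj.comp_inv,
        Category.assoc]
    refine ⟨lift (g * (y ≫ F.map (fst G X))) (y ≫ F.map (snd G X)) ≫ (Functor.Monoidal.μIso F G X).hom, ?_⟩
    have h1 : ∀ (a : Pt (F.obj G)) (b : Pt (F.obj X)),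
        (lift a b ≫ (Functor.Monoidal.μIso F G X).hom) ≫ F.map (fst G X) = a ∧
          (lift a b ≫ (Functor.Monoidal.μIso F G X).hom) ≫ F.map (snd G X) = b := fun a b => by
      rw [Category.assoc, Category.assoc]
      exact ⟨(congrArg (lift a b ≫ ·) (Functor.Monoidal.μ_fst F G X)).trans (lift_fst a b),
        (congrArg (lift a b ≫ ·) (Functor.Monoidal.μ_snd F G X)).trans (lift_snd a b)⟩
    simp only [hφK]
    rw [(h1 _ _).1, (h1 _ _).2]
    group
  have hconjH : ∀ (g : Pt (Red.bc σ G)), ∀ s ∈ H, g * s * g⁻¹ ∈ H := fun g s hs => by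
    have h : H ≤ H.comap (MulAut.conj g).toMonoidHom := (Subgroup.closure_le _).mpr fun s hs =>
      Subgroup.subset_closure (hconjS g s hs)
    exact h hs
  have hn : AlgGrp.IsNormalHom i := isNormalHom_of_geomPts (K := K) i fun g x => by
    have := hconjH g (x ≫ F.map i) (hIK ▸ ⟨x, rfl⟩ : (x ≫ F.map i) ∈ (H : Set (Pt (Red.bc σ G))))
    rw [← SetLike.mem_coe, ← hIK] at this
    exact this
  -- it is unipotent
  haveI : IsClosedImmersion (F.map i).left :=
    MorphismProperty.of_isPullback (P := @IsClosedImmersion) (GrpSchLib.HomSplitLocal.isPullback_map i σ) inferInstance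
  haveI : Mono (F.map i) := (Over.forget _).mono_of_mono_map (inferInstanceAs (Mono (F.map i).left))
  haveI : Smooth (Red.bc σ I).hom := inferInstanceAs (Smooth (pullback.snd I.hom σ))
  haveI : IsReduced (Red.bc σ I).left := GrpSchLib.isReduced_of_smooth_field (Red.bc σ I).hom
  let Rs : Subgroup (Pt (Red.bc σ G)) := (MonoidHom.mk' (fun z : Pt R => z ≫ r) fun a b => MonObj.mul_comp a b r).range
  have hHR : H ≤ Rs := (Subgroup.closure_le _).mpr fun s hs => by
    rw [hSK] at hs
    obtain ⟨y, rfl⟩ := hs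
    obtain ⟨z, hz⟩ := hX (y ≫ F.map (snd G X))
    obtain ⟨z', hz'⟩ := hRn (y ≫ F.map (fst G X)) z
    refine ⟨z', ?_⟩
    show z' ≫ r = _
    rw [hz', hz]
    simp only [φ, σ, F, Functor.map_mul, Functor.map_comp, Functor.map_inv', MonObj.comp_mul, GrpObj.comp_inv,
      Category.assoc]
  obtain ⟨t, ht⟩ := Chev.exists_lift_range r (F.map i)
    (Chev.mem_of_pts _ r.left.isClosedEmbedding.isClosed_range fun y => by
      obtain ⟨z, hz⟩ : y ≫ F.map i ∈ Rs := hHR (hIK ▸ ⟨y, rfl⟩ : (y ≫ F.map i) ∈ (H : Set (Pt (Red.bc σ G))))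
      exact ⟨pimg z, by rw [← Chev.pimg_comp]; exact congrArg pimg hz⟩)
  haveI : Mono r := (Over.forget _).mono_of_mono_map (inferInstanceAs (Mono r.left))
  haveI : IsMonHom t := Deform.isMonHom_of_comp t r ht
  haveI : Mono t := mono_of_mono_fac ht
  haveI : IsIso I.hom := hPR I i inferInstance inferInstance hIc hn
    (geom_of_bc (K := K) I (Luna.hasNoSubtorus_of_mono t hR))
  have hI1 : ∀ {W : Over (Spec (CommRingCat.of k))} (a b : W ⟶ I), a = b := fun a b =>
    Over.OverMorphism.ext ((cancel_mono I.hom).mp ((Over.w a).trans (Over.w b).symm))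
  have hφ1 : φ = 1 := by rw [← hφ', hI1 φ' 1, MonObj.one_comp]
  have := congrArg (lift (1 : X ⟶ G) (𝟙 X) ≫ ·) hφ1
  simpa only [φ, MonObj.comp_mul, GrpObj.comp_inv, lift_fst, lift_snd_assoc, Category.id_comp, _root_.one_mul, inv_one,
    _root_.mul_one, MonObj.comp_one] using this

end Groth.Agent.Deform.PseudoRed
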